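import Mathlib
import Groth.Agent.Lib.T1Base26.Ext
import Groth.Agent.Lib.AdicFS.PowerSeries

/-!
# `Ext¹` between the two branches of a node
-/

set_option autoImplicit false
universe u

open CategoryTheory Function

namespace GrothLib.NodeExt

/-- Scalars from a subfield act on `Ext` through the algebra map. -/
theorem smul_ext {k A : Type u} [Field k] [CommRing A] [Algebra k A] {M N : ModuleCat.{u} A} {n : ℕ}
    (r : k) (e : Abelian.Ext.{u} M N n) : r • e = algebraMap k A r • e := by
  have h : (r • 𝟙 N : N ⟶ N) = algebraMap k A r • 𝟙 N := by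
    ext x
    rfl
  rw [Abelian.Ext.smul_eq_comp_mk₀, Abelian.Ext.smul_eq_comp_mk₀, h]

theorem finrank_ext_eq {k A : Type u} [Field k] [CommRing A] [Algebra k A] {M N : ModuleCat.{u} A} {n : ℕ}
    {Q : Type u} [AddCommGroup Q] [Module A Q] [Module k Q] [IsScalarTower k A Q]
    (e : Abelian.Ext.{u} M N n ≃ₗ[A] Q) : Module.finrank k (Abelian.Ext.{u} M N n) = Module.finrank k Q := by
  refine LinearEquiv.finrank_eq
    ({ e.toAddEquiv with map_smul' := fun r z => ?_ } : Abelian.Ext.{u} M N n ≃ₗ[k] Q)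
  show e (r • z) = r • e z
  rw [smul_ext, map_smul, algebraMap_smul]

variable {A : Type u} [CommRing A] {x y : A}

/-- `Ext¹(A/(y), A/(x)) ≅ A/(x, y)` when `xy = 0` and `ann y = (x)`. -/
theorem nonempty_ext_equiv (hxy : x * y = 0) (hann : ∀ a, y * a = 0 → ∃ c, a = x * c) :
    Nonempty (Abelian.Ext.{u} (ModuleCat.of A (A ⧸ Ideal.span {y})) (ModuleCat.of A (A ⧸ Ideal.span {x})) 1
      ≃ₗ[A] A ⧸ Ideal.span {x, y}) := by
  let C := A ⧸ Ideal.span {x}
  have hle : Ideal.span {x} ≤ LinearMap.ker (LinearMap.toSpanSingleton A A y) := by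
    rw [Ideal.span_le]
    rintro _ rfl
    exact hxy
  let d : C →ₗ[A] A := (Ideal.span {x}).liftQ (LinearMap.toSpanSingleton A A y) hle
  have hd_mk : ∀ a, d (Submodule.Quotient.mk a) = a * y := fun a => rfl
  let π : A →ₗ[A] A ⧸ Ideal.span {y} := (Ideal.span {y}).mkQ
  have hd : Injective d := by
    rw [← LinearMap.ker_eq_bot, eq_bot_iff]
    intro z hz
    obtain ⟨a, rfl⟩ := Submodule.Quotient.mk_surjective _ z
    rw [LinearMap.mem_ker, hd_mk, mul_comm] at hz
    obtain ⟨c, rfl⟩ := hann a hz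
    exact (Submodule.Quotient.mk_eq_zero _).2 (Ideal.mem_span_singleton'.2 ⟨c, mul_comm c x⟩)
  have hex : Function.Exact d π := fun a => by
    constructor
    · intro h
      obtain ⟨c, rfl⟩ := Ideal.mem_span_singleton'.1 ((Submodule.Quotient.mk_eq_zero _).1 h)
      exact ⟨Submodule.Quotient.mk c, rfl⟩
    · rintro ⟨z, rfl⟩
      obtain ⟨c, rfl⟩ := Submodule.Quotient.mk_surjective _ z
      exact (Submodule.Quotient.mk_eq_zero _).2 (Ideal.mem_span_singleton'.2 ⟨c, rfl⟩)
  obtain ⟨e₀⟩ := GrothLib.T1Base26.nonempty_ext_one_equiv (N := C) hd (Submodule.mkQ_surjective _) hex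
  have hxI : Ideal.span {x} ≤ Ideal.span {x, y} := Ideal.span_mono (by simp)
  let φ : (C →ₗ[A] C) →ₗ[A] A ⧸ Ideal.span {x, y} :=
    (Submodule.factor hxI).comp (LinearMap.applyₗ (Submodule.Quotient.mk 1 : C))
  have hφ : ∀ f : C →ₗ[A] C, φ f = Submodule.factor hxI (f (Submodule.Quotient.mk 1)) := fun _ => rfl
  have hsurj : Surjective φ := fun z => by
    obtain ⟨a, rfl⟩ := Submodule.Quotient.mk_surjective _ z
    refine ⟨a • LinearMap.id, ?_⟩
    rw [hφ, LinearMap.smul_apply, map_smul]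
    show a • (Submodule.Quotient.mk 1 : A ⧸ Ideal.span {x, y}) = _
    rw [← Submodule.Quotient.mk_smul, smul_eq_mul, mul_one]
  have hker : LinearMap.ker φ = LinearMap.range (LinearMap.lcomp A C d) := by
    refine le_antisymm ?_ ?_
    · intro f hf
      rw [LinearMap.mem_ker, hφ] at hf
      obtain ⟨a, ha⟩ := Submodule.Quotient.mk_surjective _ (f (Submodule.Quotient.mk 1))
      rw [← ha] at hf
      obtain ⟨p, q, hpq⟩ := Ideal.mem_span_pair.1 ((Submodule.Quotient.mk_eq_zero _).1 hf)
      refine ⟨LinearMap.toSpanSingleton A C (Submodule.Quotient.mk q), LinearMap.ext fun z => ?_⟩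
      obtain ⟨b, rfl⟩ := Submodule.Quotient.mk_surjective _ z
      rw [LinearMap.lcomp_apply, hd_mk, LinearMap.toSpanSingleton_apply,
        show (Submodule.Quotient.mk b : C) = b • Submodule.Quotient.mk 1 by
          rw [← Submodule.Quotient.mk_smul, smul_eq_mul, mul_one],
        map_smul, ← ha, ← Submodule.Quotient.mk_smul, ← Submodule.Quotient.mk_smul, Submodule.Quotient.eq]
      refine Ideal.mem_span_singleton'.2 ⟨-(b * p), ?_⟩
      simp only [smul_eq_mul]
      linear_combination (-b) * hpq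
    · rintro _ ⟨g, rfl⟩
      rw [LinearMap.mem_ker, hφ, LinearMap.lcomp_apply, hd_mk, one_mul,
        show g y = y • g 1 by rw [← map_smul, smul_eq_mul, mul_one], map_smul]
      obtain ⟨c, hc⟩ := Submodule.Quotient.mk_surjective _ (Submodule.factor hxI (g 1))
      rw [← hc, ← Submodule.Quotient.mk_smul]
      exact (Submodule.Quotient.mk_eq_zero _).2 (Ideal.mul_mem_right _ _ (Ideal.subset_span (Or.inr rfl)))
  exact ⟨(e₀.symm.trans (Submodule.quotEquivOfEq _ _ hker.symm)).trans (φ.quotKerEquivOfSurjective hsurj)⟩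

end GrothLib.NodeExt
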